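import Mathlib.RingTheory.Etale.Field
import Mathlib.RingTheory.Trace.Basic
import Mathlib.RingTheory.Smooth.Fiber
import Mathlib.RingTheory.Kaehler.TensorProduct
import Mathlib.RingTheory.Unramified.Field
import Mathlib.FieldTheory.IsAlgClosed.AlgebraicClosure

/-!
# Etale finite free algebras and the discriminant
-/

namespace GrothLib.TraceEtale

open TensorProduct

universe u

theorem traceMatrix_baseChange {A B : Type*} [CommRing A] [CommRing B] [Algebra A B] {ι : Type*}
    [Fintype ι] (b : Module.Basis ι A B) (K : Type*) [CommRing K] [Algebra A K] :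
    Algebra.traceMatrix K (Algebra.TensorProduct.basis K b) =
      (Algebra.traceMatrix A b).map (algebraMap A K) := by
  have : Module.Free A B := .of_basis b
  have : Module.Finite A B := .of_basis b
  refine Matrix.ext fun i j ↦ ?_
  rw [Matrix.map_apply, Algebra.traceMatrix_apply, Algebra.traceMatrix_apply, Algebra.traceForm_apply,
    Algebra.traceForm_apply, Algebra.trace_apply, Algebra.trace_apply]
  rw [show Algebra.TensorProduct.basis K b i * Algebra.TensorProduct.basis K b j =
    (1 : K) ⊗ₜ[A] (b i * b j) by simp [Algebra.TensorProduct.basis_apply]]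
  rw [← LinearMap.trace_baseChange]
  congr 1
  refine TensorProduct.AlgebraTensorModule.ext fun c x ↦ ?_
  simp [Algebra.TensorProduct.tmul_mul_tmul]

theorem formallyUnramified_iff_det_ne_zero {k R : Type u} [Field k] [IsAlgClosed k] [CommRing R]
    [Algebra k R] {ι : Type*} [Fintype ι] [DecidableEq ι] (b : Module.Basis ι k R) :
    Algebra.FormallyUnramified k R ↔ (Algebra.traceMatrix k b).det ≠ 0 := by
  have : Module.Finite k R := .of_basis b
  rw [Algebra.traceMatrix_of_basis, ← LinearMap.BilinForm.nondegenerate_iff_det_ne_zero]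
  constructor
  · intro h
    classical
    have : Algebra.FormallyEtale k R := .of_formallyUnramified_of_field k R
    let e := Algebra.FormallyEtale.equivPiOfIsSepClosed k R
    have : IsArtinianRing R := isArtinian_of_tower k inferInstance
    let _ : Fintype (PrimeSpectrum R) := Fintype.ofFinite _
    let b₀ := (Pi.basisFun k (PrimeSpectrum R)).map e.symm.toLinearEquiv
    rw [LinearMap.BilinForm.nondegenerate_iff_det_ne_zero b₀,
      show LinearMap.BilinForm.toMatrix b₀ (Algebra.traceForm k R) = 1 from ?_, Matrix.det_one]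
    · exact one_ne_zero
    refine Matrix.ext fun i j ↦ ?_
    rw [LinearMap.BilinForm.toMatrix_apply, Algebra.traceForm_apply]
    show Algebra.trace k R (e.symm (Pi.basisFun k _ i) * e.symm (Pi.basisFun k _ j)) = _
    rw [← map_mul, Algebra.trace_eq_of_algEquiv e.symm]
    rcases eq_or_ne i j with rfl | hij
    · rw [Matrix.one_apply_eq, show (Pi.basisFun k _ i : PrimeSpectrum R → k) *
          Pi.basisFun k _ i = Pi.single i 1 by ext p; simp [Pi.single_apply],
        Algebra.trace_eq_matrix_trace (Pi.basisFun k (PrimeSpectrum R)), Matrix.trace]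
      simp [Matrix.diag, Algebra.leftMulMatrix_eq_repr_mul, Pi.single_apply, ← ite_and]
    · rw [Matrix.one_apply_ne hij, show (Pi.basisFun k _ i : PrimeSpectrum R → k) *
        Pi.basisFun k _ j = 0 by ext p; simp [Pi.single_apply]; grind, map_zero]
  · intro h
    have : IsReduced R := ⟨fun x hx ↦ h.1 x fun y ↦ by
      rw [Algebra.traceForm_apply, Algebra.trace_apply]
      have h2 : IsNilpotent (Algebra.lmul k R (x * y)) :=
        (Commute.isNilpotent_mul_right (Commute.all _ _) hx).map (Algebra.lmul k R)
      exact (LinearMap.isNilpotent_trace_of_isNilpotent h2).eq_zero⟩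
    classical
    have : IsArtinianRing R := isArtinian_of_tower k inferInstance
    let _ (m : MaximalSpectrum R) : Field (R ⧸ m.asIdeal) := Ideal.Quotient.field m.asIdeal
    have : Algebra.FormallyEtale k R := (Algebra.FormallyEtale.iff_exists_algEquiv_prod k R).mpr
      ⟨_, inferInstance, _, _, _, (IsArtinianRing.equivPi R).restrictScalars k,
        fun i ↦ ⟨fun x ↦ by
          obtain ⟨a, rfl⟩ := (IsAlgClosed.algebraMap_bijective_of_isIntegral (k := k)).2 x
          exact isSeparable_algebraMap a⟩⟩
    infer_instance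

/-- A finite free algebra is formally unramified iff its discriminant is a unit. -/
theorem formallyUnramified_iff_isUnit_det {A B : Type u} [CommRing A] [CommRing B] [Algebra A B]
    {ι : Type*} [Fintype ι] [DecidableEq ι] (b : Module.Basis ι A B) :
    Algebra.FormallyUnramified A B ↔ IsUnit (Algebra.traceMatrix A b).det := by
  have : Module.Finite A B := .of_basis b
  constructor
  · intro h
    by_contra hu
    obtain ⟨m, hm, hdm⟩ := exists_max_ideal_of_mem_nonunits hu
    let _ : Field (A ⧸ m) := Ideal.Quotient.field m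
    let K := AlgebraicClosure (A ⧸ m)
    have h1 := (formallyUnramified_iff_det_ne_zero (Algebra.TensorProduct.basis K b)).mp inferInstance
    rw [traceMatrix_baseChange, ← RingHom.mapMatrix_apply, ← RingHom.map_det,
      IsScalarTower.algebraMap_apply A (A ⧸ m) K, Ideal.Quotient.algebraMap_eq,
      Ideal.Quotient.eq_zero_iff_mem.mpr hdm, map_zero] at h1
    exact h1 rfl
  · intro hu
    rw [Algebra.formallyUnramified_iff]
    have hfin : Module.Finite A Ω[B⁄A] := Module.Finite.trans B _
    have key : ∀ m : Ideal A, m.IsMaximal → (⊤ : Submodule A Ω[B⁄A]) ≤ m • ⊤ := by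
      intro m hm
      let _ : Field (A ⧸ m) := Ideal.Quotient.field m
      let K := AlgebraicClosure (A ⧸ m)
      have : Algebra.FormallyUnramified K (K ⊗[A] B) :=
        (formallyUnramified_iff_det_ne_zero (Algebra.TensorProduct.basis K b)).mpr (by
          rw [traceMatrix_baseChange, ← RingHom.mapMatrix_apply, ← RingHom.map_det]
          exact (hu.map _).ne_zero)
      let _ : Algebra B (K ⊗[A] B) := Algebra.TensorProduct.rightAlgebra
      have h1 : Subsingleton (K ⊗[A] Ω[B⁄A]) :=
        (KaehlerDifferential.tensorKaehlerEquivBase A K B (K ⊗[A] B)).subsingleton_congr.mpr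
          inferInstance
      have h2 : Subsingleton (K ⊗[A ⧸ m] ((A ⧸ m) ⊗[A] Ω[B⁄A])) :=
        (AlgebraTensorModule.cancelBaseChange A (A ⧸ m) K K Ω[B⁄A]).subsingleton_congr.mpr h1
      have h3 : Subsingleton ((A ⧸ m) ⊗[A] Ω[B⁄A]) :=
        Module.FaithfullyFlat.lTensor_reflects_triviality (A ⧸ m) K _
      have h4 : Subsingleton (Ω[B⁄A] ⧸ m • (⊤ : Submodule A Ω[B⁄A])) :=
        (TensorProduct.quotTensorEquivQuotSMul Ω[B⁄A] m).symm.subsingleton_congr.mpr h3
      rw [Submodule.Quotient.subsingleton_iff] at h4
      exact h4.ge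
    by_contra hne
    rw [not_subsingleton_iff_nontrivial] at hne
    have hann : Module.annihilator A Ω[B⁄A] ≠ ⊤ := by
      rw [Ne, Ideal.eq_top_iff_one, Module.mem_annihilator]
      intro h
      obtain ⟨x, hx⟩ := exists_ne (0 : Ω[B⁄A])
      exact hx (by simpa using h x)
    obtain ⟨m, hm, hle⟩ := Ideal.exists_le_maximal _ hann
    obtain ⟨r, hr, hr0⟩ := Submodule.exists_sub_one_mem_and_smul_eq_zero_of_fg_of_le_smul m ⊤
      hfin.fg_top (key m hm)
    have hrm : r ∈ m := hle (Module.mem_annihilator.mpr fun x ↦ hr0 x trivial)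
    exact hm.ne_top ((Ideal.eq_top_iff_one m).mpr (by simpa using sub_mem hrm hr))

end GrothLib.TraceEtale
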